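import Mathlib

/-!
# Homogeneous Jordan chains
-/

set_option autoImplicit false
universe u v w

namespace Groth.GradedJordan

variable {k : Type u} [Field k] {Λ : Type v} [AddCommGroup Λ] [DecidableEq Λ]
  {V : Type w} [AddCommGroup V] [Module k V] (𝒱 : Λ → Submodule k V) [DirectSum.Decomposition 𝒱]
  (A : Module.End k V) (χ : Λ)

/-- The homogeneous component. -/
noncomputable def comp (μ : Λ) (x : V) : V := (DirectSum.decompose 𝒱 x μ : V)

theorem comp_mem (μ : Λ) (x : V) : comp 𝒱 μ x ∈ 𝒱 μ := (DirectSum.decompose 𝒱 x μ).2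

theorem comp_A (hhom : ∀ (μ : Λ) (v : V), v ∈ 𝒱 μ → A v ∈ 𝒱 (μ + χ)) (μ : Λ) (x : V) :
    comp 𝒱 (μ + χ) (A x) = A (comp 𝒱 μ x) := by
  induction x using DirectSum.Decomposition.inductionOn 𝒱 with
  | zero => simp [comp]
  | @homogeneous ν m =>
    unfold comp
    by_cases h : ν = μ
    · subst h
      rw [DirectSum.decompose_of_mem_same 𝒱 (hhom ν _ m.2), DirectSum.decompose_of_mem_same 𝒱 m.2]
    · rw [DirectSum.decompose_of_mem_ne 𝒱 (hhom ν _ m.2) (fun e => h (add_right_cancel e)),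
        DirectSum.decompose_of_mem_ne 𝒱 m.2 h, map_zero]
  | add x y hx hy =>
    simp only [comp, map_add, DirectSum.decompose_add, DirectSum.add_apply, Submodule.coe_add] at hx hy ⊢
    rw [hx, hy]

theorem comp_self {μ : Λ} {x : V} (h : x ∈ 𝒱 μ) : comp 𝒱 μ x = x := DirectSum.decompose_of_mem_same 𝒱 h

/-- A subspace stable under taking components. -/
def IsHom (W : Submodule k V) : Prop := ∀ x ∈ W, ∀ μ, comp 𝒱 μ x ∈ W

theorem IsHom.le_span {W : Submodule k V} (hW : IsHom 𝒱 W) :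
    W ≤ Submodule.span k {x | x ∈ W ∧ ∃ μ, x ∈ 𝒱 μ} := by
  intro x hx
  classical
  rw [← DirectSum.sum_support_decompose 𝒱 x]
  exact sum_mem fun μ _ => Submodule.subset_span ⟨hW x hx μ, μ, comp_mem 𝒱 μ x⟩

theorem IsHom.map (hhom : ∀ (μ : Λ) (v : V), v ∈ 𝒱 μ → A v ∈ 𝒱 (μ + χ)) {W : Submodule k V}
    (hW : IsHom 𝒱 W) : IsHom 𝒱 (W.map A) := by
  rintro _ ⟨x, hx, rfl⟩ μ
  exact ⟨comp 𝒱 (μ - χ) x, hW x hx _, by rw [← comp_A 𝒱 A χ hhom, sub_add_cancel]⟩

theorem IsHom.ker_inf (hhom : ∀ (μ : Λ) (v : V), v ∈ 𝒱 μ → A v ∈ 𝒱 (μ + χ)) {W : Submodule k V}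
    (hW : IsHom 𝒱 W) : IsHom 𝒱 (LinearMap.ker A ⊓ W) := by
  rintro x ⟨hx, hx'⟩ μ
  refine ⟨?_, hW x hx' μ⟩
  show A (comp 𝒱 μ x) = 0
  rw [← comp_A 𝒱 A χ hhom, show A x = 0 from hx]
  simp [comp]

/-- A family of homogeneous chains forming a basis of `W`. -/
def HasChains (W : Submodule k V) : Prop :=
  ∃ (ι : Type w) (_ : Fintype ι) (n : ι → ℕ) (e : (Σ i : ι, Fin (n i + 1)) → V),
    (∀ p, ∃ μ, e p ∈ 𝒱 μ) ∧ (∀ i, A (e ⟨i, 0⟩) = 0) ∧
    (∀ (i : ι) (l : Fin (n i)), A (e ⟨i, l.succ⟩) = e ⟨i, l.castSucc⟩) ∧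
    LinearIndependent k e ∧ Submodule.span k (Set.range e) = W

theorem hasChains_step (hhom : ∀ (μ : Λ) (v : V), v ∈ 𝒱 μ → A v ∈ 𝒱 (μ + χ)) [FiniteDimensional k V]
    {W : Submodule k V} (hW : IsHom 𝒱 W) (hst : W.map A ≤ W) (h : HasChains 𝒱 A (W.map A)) :
    HasChains 𝒱 A W := by
  classical
  obtain ⟨ι, _, n, e, hhomE, hbot, hsucc, hli, hspan⟩ := h
  have hlift : ∀ i, ∃ v ∈ W, (∃ μ, v ∈ 𝒱 μ) ∧ A v = e ⟨i, Fin.last (n i)⟩ := by
    intro i
    obtain ⟨μ, hμ⟩ := hhomE ⟨i, Fin.last (n i)⟩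
    obtain ⟨x, hx, hAx⟩ : e ⟨i, Fin.last (n i)⟩ ∈ W.map A := hspan ▸ Submodule.subset_span ⟨_, rfl⟩
    exact ⟨comp 𝒱 (μ - χ) x, hW x hx _, ⟨_, comp_mem 𝒱 _ x⟩, by
      rw [← comp_A 𝒱 A χ hhom, sub_add_cancel, hAx, comp_self 𝒱 hμ]⟩
  choose v hvW hvhom hAv using hlift
  let H : Set V := {x | x ∈ LinearMap.ker A ⊓ W ∧ ∃ μ, x ∈ 𝒱 μ}
  let b : ι → V := fun i => e ⟨i, 0⟩
  have hbH : Set.range b ⊆ H := by
    rintro _ ⟨i, rfl⟩
    exact ⟨⟨hbot i, hst (hspan ▸ Submodule.subset_span ⟨_, rfl⟩)⟩, hhomE _⟩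
  have hbli : LinearIndependent k b :=
    hli.comp (fun i => (⟨i, 0⟩ : Σ i : ι, Fin (n i + 1))) (fun i j hij => congrArg Sigma.fst hij)
  obtain ⟨s, hsH, hbs, hHs, hsli⟩ := exists_linearIndepOn_id_extension hbli.linearIndepOn_id hbH
  have hsspan : Submodule.span k s = LinearMap.ker A ⊓ W := by
    refine le_antisymm (Submodule.span_le.2 fun x hx => (hsH hx).1) ?_
    refine (hW.ker_inf 𝒱 A χ hhom).le_span.trans (Submodule.span_le.2 ?_)
    exact hHs
  haveI : Fintype s := @Fintype.ofFinite _ hsli.linearIndependent.finite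
  let J := {x : s // x.1 ∉ Set.range b}
  let n' : ι ⊕ J → ℕ := Sum.elim (fun i => n i + 1) fun _ => 0
  let f : ∀ c : ι ⊕ J, Fin (n' c + 1) → V
    | Sum.inl i => Fin.snoc (fun l => e ⟨i, l⟩) (v i)
    | Sum.inr j => fun _ => j.1.1
  let e' : (Σ c : ι ⊕ J, Fin (n' c + 1)) → V := fun p => f p.1 p.2
  have fe_last : ∀ i : ι, e' ⟨Sum.inl i, Fin.last (n i + 1)⟩ = v i := fun i =>
    Fin.snoc_last (α := fun _ => V) (v i) (fun l => e ⟨i, l⟩)
  have fe_cast : ∀ (i : ι) (l : Fin (n i + 1)), e' ⟨Sum.inl i, l.castSucc⟩ = e ⟨i, l⟩ := fun i l =>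
    Fin.snoc_castSucc (α := fun _ => V) (v i) (fun l => e ⟨i, l⟩) l
  have hmem : ∀ p, e' p ∈ W ∧ ∃ μ, e' p ∈ 𝒱 μ := by
    rintro ⟨c | j, l⟩
    · change Fin (n c + 1 + 1) at l
      refine Fin.lastCases ?_ (fun l => ?_) l
      · rw [fe_last]; exact ⟨hvW c, hvhom c⟩
      · rw [fe_cast]
        exact ⟨hst (hspan ▸ Submodule.subset_span ⟨_, rfl⟩), hhomE _⟩
    · exact ⟨(hsH j.1.2).1.2, (hsH j.1.2).2⟩
  have hspan' : Submodule.span k (Set.range e') = W := by
    refine le_antisymm (Submodule.span_le.2 (by rintro _ ⟨p, rfl⟩; exact (hmem p).1)) fun x hx => ?_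
    have hold : ∀ p : Σ i : ι, Fin (n i + 1), e p ∈ Set.range e' := fun p =>
      ⟨⟨Sum.inl p.1, p.2.castSucc⟩, fe_cast p.1 p.2⟩
    have hAe : ∀ p : Σ i : ι, Fin (n i + 1), e p ∈ (Submodule.span k (Set.range e')).map A := by
      rintro ⟨i, l⟩
      refine Fin.lastCases ?_ (fun l => ?_) l
      · exact ⟨v i, Submodule.subset_span ⟨⟨Sum.inl i, Fin.last _⟩, fe_last i⟩, hAv i⟩
      · exact ⟨e ⟨i, l.succ⟩, Submodule.subset_span (hold _), hsucc i l⟩
    obtain ⟨y, hy, hAy⟩ : A x ∈ (Submodule.span k (Set.range e')).map A :=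
      (show W.map A ≤ _ by rw [← hspan, Submodule.span_le]; rintro _ ⟨p, rfl⟩; exact hAe p) ⟨x, hx, rfl⟩
    have hyW : y ∈ W := Submodule.span_le.2 (by rintro _ ⟨p, rfl⟩; exact (hmem p).1) hy
    have hz : x - y ∈ Submodule.span k s := by
      rw [hsspan]
      exact ⟨by simp [hAy], sub_mem hx hyW⟩
    have hsle : Submodule.span k s ≤ Submodule.span k (Set.range e') := by
      refine Submodule.span_mono fun z hz => ?_
      by_cases hzb : z ∈ Set.range b
      · obtain ⟨i, rfl⟩ := hzb; exact hold _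
      · exact ⟨⟨Sum.inr ⟨⟨z, hz⟩, hzb⟩, 0⟩, rfl⟩
    simpa using add_mem (hsle hz) hy
  have hcard : Fintype.card (Σ c : ι ⊕ J, Fin (n' c + 1)) = Module.finrank k W := by
    have h1 : Module.finrank k (W.map A) = ∑ i, (n i + 1) := by
      rw [← hspan, finrank_span_eq_card hli, Fintype.card_sigma]
      simp
    have h2 : Module.finrank k ↥(LinearMap.ker A ⊓ W) = Fintype.card s := by
      rw [← hsspan]
      exact (finrank_span_set_eq_card hsli).trans (Set.toFinset_card s)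
    have h3 : Module.finrank k W = Module.finrank k (W.map A) + Module.finrank k ↥(LinearMap.ker A ⊓ W) := by
      have := LinearMap.finrank_range_add_finrank_ker (A.domRestrict W)
      rw [LinearMap.range_domRestrict, LinearMap.ker_domRestrict] at this
      rw [← this]
      congr 1
      refine LinearEquiv.finrank_eq
        ((Submodule.equivMapOfInjective W.subtype W.subtype_injective _).trans (LinearEquiv.ofEq _ _ ?_))
      rw [Submodule.map_comap_eq, Submodule.range_subtype, inf_comm]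
    have h4 : Fintype.card s = Fintype.card ι + Fintype.card J := by
      let φ : ι ⊕ J → s := Sum.elim (fun i => ⟨b i, hbs ⟨i, rfl⟩⟩) Subtype.val
      have : Function.Bijective φ := by
        constructor
        · refine Function.Injective.sumElim (fun i j hij => hbli.injective (congrArg Subtype.val hij))
            Subtype.val_injective fun i j hij => j.2 ⟨i, congrArg Subtype.val hij⟩
        · intro z
          by_cases hz : z.1 ∈ Set.range b
          · obtain ⟨i, hi⟩ := hz; exact ⟨Sum.inl i, Subtype.ext hi⟩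
          · exact ⟨Sum.inr ⟨z, hz⟩, rfl⟩
      rw [← Fintype.card_of_bijective this, Fintype.card_sum]
    rw [h3, h1, h2, h4, Fintype.card_sigma]
    simp only [Fintype.card_fin, Fintype.sum_sum_type, n', Sum.elim_inl, Sum.elim_inr, Finset.sum_add_distrib,
      Finset.sum_const, Finset.card_univ, smul_eq_mul, mul_one, mul_zero, Fintype.card_sum]
    ring
  refine ⟨ι ⊕ J, inferInstance, n', e', fun p => (hmem p).2, ?_, ?_, ?_, hspan'⟩
  · rintro (i | j)
    · show A ((Fin.snoc (fun l => e ⟨i, l⟩) (v i) : Fin (n i + 1 + 1) → V) 0) = 0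
      rw [show (0 : Fin (n i + 1 + 1)) = (0 : Fin (n i + 1)).castSucc from Fin.castSucc_zero.symm,
        Fin.snoc_castSucc]
      exact hbot i
    · exact (hsH j.1.2).1.1
  · rintro (i | j) l
    · change Fin (n i + 1) at l
      show A ((Fin.snoc (fun l => e ⟨i, l⟩) (v i) : Fin (n i + 1 + 1) → V) l.succ) =
        (Fin.snoc (fun l => e ⟨i, l⟩) (v i) : Fin (n i + 1 + 1) → V) l.castSucc
      rw [Fin.snoc_castSucc]
      refine Fin.lastCases ?_ (fun l => ?_) l
      · rw [Fin.succ_last, Fin.snoc_last]; exact hAv i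
      · rw [Fin.succ_castSucc, Fin.snoc_castSucc]; exact hsucc i l
    · exact l.elim0
  · refine linearIndependent_iff_card_eq_finrank_span.2 ?_
    rw [Set.finrank, hspan', hcard]

theorem hasChains (hhom : ∀ (μ : Λ) (v : V), v ∈ 𝒱 μ → A v ∈ 𝒱 (μ + χ)) [FiniteDimensional k V]
    (hA : IsNilpotent A) : ∀ (m : ℕ) (W : Submodule k V), IsHom 𝒱 W → W.map A ≤ W → W.map (A ^ m) = ⊥ →
      HasChains 𝒱 A W := by
  intro m
  induction m with
  | zero =>
    intro W _ _ h0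
    rw [pow_zero, Module.End.one_eq_id, Submodule.map_id] at h0
    exact ⟨PEmpty, inferInstance, fun i => i.elim, fun p => p.1.elim, fun p => p.1.elim, fun i => i.elim,
      fun i => i.elim, linearIndependent_empty_type, by rw [h0, Set.range_eq_empty, Submodule.span_empty]⟩
  | succ m ih =>
    intro W hW hst hm
    refine hasChains_step 𝒱 A χ hhom hW hst (ih _ (hW.map 𝒱 A χ hhom) (Submodule.map_mono hst) ?_)
    rw [← Submodule.map_comp, ← Module.End.mul_eq_comp, ← pow_succ]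
    exact hm

end Groth.GradedJordan
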